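import Cfsg.Prelude.Def_Solvable
import Cfsg.Agent.Lib.LocalChar.Basic
import Cfsg.Agent.Lib.Transfer.Residual
import Mathlib.GroupTheory.Nilpotent
import Mathlib.GroupTheory.IsSubnormal

/-!
Small facts about `p'`-elements acting on series of `p`-groups.

* `isPGroup_of_forall`: a group without nontrivial `p'`-elements is a `p`-group;
* `isSubnormal_of_isPGroup`: every subgroup of a finite `p`-group is subnormal;
* `isSubnormal_sup_of_quotient`: if `K/R` is a `p`-group, every subgroup above `R` is subnormal in `K`;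
* `le_pCore_of_stabilizes`: in characteristic `p` a normal subgroup stabilising a series of `O_p` lies in it.
-/

namespace Cfsg.Agent.PRed

open Subgroup

variable {G : Type*} [Group G] {p : ℕ}

theorem exists_pow_p'_order [Finite G] [hp : Fact p.Prime] (x : G) :
    ∃ k : ℕ, ¬ p ∣ orderOf (x ^ p ^ k) := by
  obtain ⟨k, m, hm, hkm⟩ := Nat.exists_eq_pow_mul_and_not_dvd
    (orderOf_pos x).ne' p hp.out.ne_one
  refine ⟨k, ?_⟩
  rw [orderOf_pow' _ (pow_ne_zero k hp.out.ne_zero), hkm,
    Nat.gcd_eq_right (dvd_mul_right _ _), Nat.mul_div_cancel_left _ (pow_pos hp.out.pos k)]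
  exact hm

theorem isPGroup_of_forall [Finite G] [Fact p.Prime] (L : Subgroup G)
    (h : ∀ b ∈ L, ¬ p ∣ orderOf b → b = 1) : IsPGroup p ↥L := by
  intro x
  obtain ⟨k, hk⟩ := exists_pow_p'_order (p := p) (x : G)
  exact ⟨k, Subtype.ext (h _ (pow_mem x.2 _) hk)⟩

theorem not_dvd_orderOf_iff [hp : Fact p.Prime] (x : G) :
    ¬ p ∣ orderOf x ↔ (orderOf x).Coprime p :=
  (Nat.coprime_comm.trans hp.out.coprime_iff_not_dvd).symm

theorem mem_pResidual_of_not_dvd [Fact p.Prime] {x : G} (h : ¬ p ∣ orderOf x) :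
    x ∈ Cfsg.pResidual p G :=
  Subgroup.subset_closure ((not_dvd_orderOf_iff x).1 h)

/-- Every subgroup of a finite nilpotent group is subnormal. -/
theorem isSubnormal_of_isNilpotent [Finite G] [Group.IsNilpotent G] (H : Subgroup G) :
    H.IsSubnormal := by
  induction H using WellFoundedGT.induction with
  | _ H ih =>
    by_cases h : H = ⊤
    · exact h ▸ IsSubnormal.top
    · have hlt := Group.normalizerCondition_of_isNilpotent H (lt_top_iff_ne_top.2 h)
      exact IsSubnormal.step H _ hlt.le (ih _ hlt) (normal_subgroupOf_of_le_normalizer le_rfl)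

theorem isSubnormal_of_isPGroup [Finite G] [Fact p.Prime] (hG : IsPGroup p G) (H : Subgroup G) :
    H.IsSubnormal :=
  have := hG.isNilpotent
  isSubnormal_of_isNilpotent H

/-- If `K/R` is a `p`-group, a subgroup of `K` containing `R` is subnormal in `K`. -/
theorem isSubnormal_of_quotient [Finite G] [Fact p.Prime] {K : Subgroup G} (R : Subgroup ↥K)
    [R.Normal] (hR : IsPGroup p (↥K ⧸ R)) {H : Subgroup G} (hHK : H ≤ K)
    (hRH : R.map K.subtype ≤ H) : (H.subgroupOf K).IsSubnormal := by
  have h := (isSubnormal_of_isPGroup hR ((H.subgroupOf K).map (QuotientGroup.mk' R))).comap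
    (QuotientGroup.mk' R)
  rwa [comap_map_eq, QuotientGroup.ker_mk', sup_eq_left.2] at h
  intro x hx
  exact mem_subgroupOf.2 (hRH ⟨x, hx, rfl⟩)

end Cfsg.Agent.PRed
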