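import Cfsg.Prelude.Def_LocalEven
import Cfsg.Agent.Lib.PRed.Basic
import Cfsg.Agent.Lib.PGroup.Basic
import Cfsg.Agent.Lib.PGroup.ElementaryAbelian
import Cfsg.Agent.Lib.Balance.CharP
import Cfsg.Agent.Lib.SylowCount.Basic
import Cfsg.Agent.Lib.Coprime.Sylow

/-!
The equivariant norm map and centralisers of `Ω₁(Z(T))` in normal subgroups.

* `commute_of_fixed`: `M` acts on the abelian `p`-group `A`, `S ≤ M` of index prime to `p`: if `M`
  centralises the elements of `A ⊓ K` fixed by the `p`-group `T`, it centralises the `S`-fixed elements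
  whose commutators with `M` lie in `K`;
* `inf_centralizer_omega_center`: `C_L(Ω₁Z(P)) = C_L(Ω₁Z(P ⊓ L))` for `L ⊴ K`, `P` Sylow in `K`.
-/

namespace Cfsg.Agent.PRed

open Subgroup
open scoped commutatorElement

variable {G : Type*} [Group G] [Finite G] {p : ℕ} [Fact p.Prime]

theorem conj_mem_of_normalizer {H : Subgroup G} {g x : G} (hg : g ∈ normalizer (H : Set G))
    (hx : x ∈ H) : g * x * g⁻¹ ∈ H :=
  (mem_normalizer_iff.1 hg x).1 hx

/-- A nontrivial `p`-subgroup normalised by the `p`-group `T` has a nontrivial element fixed by `T`. -/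
theorem exists_fixed {Q T : Subgroup G} (hQ : IsPGroup p ↥Q) (hT : IsPGroup p ↥T)
    (hTQ : T ≤ normalizer (Q : Set G)) (h : Q ≠ ⊥) :
    ∃ x ∈ Q, x ≠ 1 ∧ ∀ t ∈ T, Commute t x := by
  have hJ : IsPGroup p ↥(T ⊔ Q) := hT.to_sup_of_normal_right' hQ hTQ
  have hn : (Q.subgroupOf (T ⊔ Q)).Normal :=
    normal_subgroupOf_of_le_normalizer (sup_le hTQ le_normalizer)
  have hne : Q.subgroupOf (T ⊔ Q) ≠ ⊥ := by
    intro he
    rw [subgroupOf_eq_bot] at he
    exact h (le_bot_iff.1 fun x hx => he.le_bot ⟨hx, mem_sup_right hx⟩)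
  have h1 := PGroup.inf_center_ne_bot hJ (Q.subgroupOf (T ⊔ Q)) hne
  obtain ⟨⟨x, hx⟩, hx1⟩ := Subgroup.ne_bot_iff_exists_ne_one.1 h1
  refine ⟨x, mem_subgroupOf.1 hx.1, fun he => hx1 (Subtype.ext (Subtype.ext he)), fun t ht => ?_⟩
  exact congrArg Subtype.val (mem_center_iff.1 hx.2 ⟨t, mem_sup_left ht⟩)

/-- The norm map: if `M` centralises the `T`-fixed elements of `A ⊓ K`, it centralises every
`S`-fixed element `a` of `A` with `[a, M] ≤ K`. -/
theorem commute_of_fixed {A M S T K : Subgroup G} (hA : IsMulCommutative ↥A) (hAp : IsPGroup p ↥A)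
    (hMA : M ≤ normalizer (A : Set G)) (hSM : S ≤ M) (hidx : ¬ p ∣ S.relIndex M)
    (hTp : IsPGroup p ↥T) (hTA : T ≤ normalizer (A : Set G)) (hTM : T ≤ normalizer (M : Set G))
    (hTS : T ≤ normalizer (S : Set G)) (hTK : T ≤ normalizer (K : Set G))
    (hMK : M ≤ normalizer (K : Set G))
    (hfix : ∀ k ∈ A, k ∈ K → (∀ t ∈ T, Commute t k) → ∀ m ∈ M, Commute m k)
    {a : G} (ha : a ∈ A) (haS : ∀ s ∈ S, Commute s a)
    (haK : ∀ m ∈ M, m * a * m⁻¹ * a⁻¹ ∈ K) : ∀ m ∈ M, Commute m a := by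
  classical
  have hp : p.Prime := Fact.out
  letI : CommGroup ↥A :=
    { (inferInstance : Group ↥A) with mul_comm := fun a b => hA.is_comm.comm a b }
  let S' := S.subgroupOf M
  have : Fintype (↥M ⧸ S') := Fintype.ofFinite _
  let act : ↥M → ↥A →* ↥A := fun m => MonoidHom.mk'
    (fun w => ⟨(m : G) * w * (m : G)⁻¹, conj_mem_of_normalizer (hMA m.2) w.2⟩) (fun x y => by
      refine Subtype.ext ?_
      show (m : G) * ((x : G) * y) * (m : G)⁻¹ = ((m : G) * x * (m : G)⁻¹) * ((m : G) * y * (m : G)⁻¹)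
      group)
  let nrm : ↥A →* ↥A := ∏ q : ↥M ⧸ S', act q.out
  have nrm_apply : ∀ x : ↥A, nrm x = ∏ q : ↥M ⧸ S', act q.out x := fun x =>
    MonoidHom.finsetProd_apply _ _ _
  -- fixed points of `S`
  let C : Subgroup ↥A := ((centralizer (S : Set G)).subgroupOf A)
  have hwd : ∀ x ∈ C, ∀ m n : ↥M, (QuotientGroup.mk m : ↥M ⧸ S') = QuotientGroup.mk n →
      act m x = act n x := by
    intro x hx m n h
    have h1 : (m : G)⁻¹ * n ∈ S := mem_subgroupOf.1 (QuotientGroup.eq.1 h)
    have h2 := mem_centralizer_iff.1 (mem_subgroupOf.1 hx) _ h1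
    refine Subtype.ext ?_
    show (m : G) * x * (m : G)⁻¹ = (n : G) * x * (n : G)⁻¹
    calc (m : G) * x * (m : G)⁻¹
        = (m : G) * ((x : G) * ((m : G)⁻¹ * n)) * (n : G)⁻¹ := by group
      _ = (m : G) * (((m : G)⁻¹ * n) * (x : G)) * (n : G)⁻¹ := by rw [h2]
      _ = (n : G) * x * (n : G)⁻¹ := by group
  have hinv : ∀ x ∈ C, ∀ m : ↥M, act m (nrm x) = nrm x := by
    intro x hx m
    rw [nrm_apply, map_prod]
    refine Fintype.prod_equiv (MulAction.toPerm m) _ _ fun q => ?_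
    have h1 : act m (act q.out x) = act (m * q.out) x := by
      refine Subtype.ext ?_
      show (m : G) * ((q.out : G) * x * (q.out : G)⁻¹) * (m : G)⁻¹ =
        ((m * q.out : ↥M) : G) * x * ((m * q.out : ↥M) : G)⁻¹
      simp only [coe_mul]; group
    rw [h1]
    refine hwd x hx _ _ ?_
    rw [QuotientGroup.out_eq']
    conv_rhs => rw [MulAction.toPerm_apply, ← QuotientGroup.out_eq' q]
    rfl
  set μ := Fintype.card (↥M ⧸ S') with hμ
  have hμp : ¬ p ∣ μ := by
    rw [hμ, ← Nat.card_eq_fintype_card]; exact hidx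
  have hnrm : ∀ x : ↥A, (∀ m : ↥M, act m x = x) → nrm x = x ^ μ := by
    intro x hx
    rw [nrm_apply, Finset.prod_eq_pow_card (b := x) (fun q _ => hx _), Finset.card_univ]
  -- the kernel has trivial `T`-fixed points
  set Ker : Subgroup G := ((nrm.ker ⊓ C).map A.subtype) ⊓ K with hKer
  have hKA : Ker ≤ A := inf_le_left.trans (map_subtype_le _)
  have memKer : ∀ x : G, x ∈ Ker ↔ ∃ h : x ∈ A, nrm ⟨x, h⟩ = 1 ∧ (∀ s ∈ S, Commute s x) ∧ x ∈ K := by
    intro x
    constructor
    · rintro ⟨⟨y, hy, rfl⟩, hK⟩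
      exact ⟨y.2, hy.1, fun s hs => mem_centralizer_iff.1 (mem_subgroupOf.1 hy.2) s hs, hK⟩
    · rintro ⟨h, h1, h2, h3⟩
      exact ⟨⟨⟨x, h⟩, ⟨h1, mem_subgroupOf.2 (mem_centralizer_iff.2 fun s hs => (h2 s hs).eq)⟩, rfl⟩, h3⟩
  have hTKer : T ≤ normalizer (Ker : Set G) := by
    rw [le_normalizer_iff]
    intro t ht x hx
    obtain ⟨h, h1, h2, h3⟩ := (memKer x).1 hx
    have htA := conj_mem_of_normalizer (hTA ht) h
    have h2' : ∀ s ∈ S, Commute s (t * x * t⁻¹) := by
      intro s hs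
      have hs' := (h2 _ ((mem_normalizer_iff''.1 (hTS ht) s).1 hs)).eq
      show s * (t * x * t⁻¹) = t * x * t⁻¹ * s
      calc s * (t * x * t⁻¹) = t * ((t⁻¹ * s * t) * x) * t⁻¹ := by group
        _ = t * (x * (t⁻¹ * s * t)) * t⁻¹ := by rw [hs']
        _ = t * x * t⁻¹ * s := by group
    refine (memKer _).2 ⟨htA, ?_, h2', conj_mem_of_normalizer (hTK ht) h3⟩
    -- equivariance of the norm
    let τ : ↥A →* ↥A := MonoidHom.mk'
      (fun w => ⟨t * w * t⁻¹, conj_mem_of_normalizer (hTA ht) w.2⟩) (fun x y => by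
        refine Subtype.ext ?_
        show t * ((x : G) * y) * t⁻¹ = (t * x * t⁻¹) * (t * y * t⁻¹)
        group)
    let σ : ↥M → ↥M := fun m => ⟨t * m * t⁻¹, conj_mem_of_normalizer (hTM ht) m.2⟩
    let σ' : ↥M ⧸ S' → ↥M ⧸ S' := fun q => QuotientGroup.mk (σ q.out)
    have hσ : Function.Injective σ' := by
      intro q q' hq
      have h4 := mem_subgroupOf.1 (QuotientGroup.eq.1 hq)
      have h5 : (q.out : G)⁻¹ * q'.out ∈ S := by
        have h6 := (mem_normalizer_iff''.1 (hTS ht) _).1 h4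
        simp only [σ, coe_mul, coe_inv] at h6
        convert h6 using 1
        group
      have h7 : (QuotientGroup.mk q.out : ↥M ⧸ S') = QuotientGroup.mk q'.out :=
        QuotientGroup.eq.2 (mem_subgroupOf.2 h5)
      rwa [QuotientGroup.out_eq', QuotientGroup.out_eq'] at h7
    have h8 : τ (nrm ⟨x, h⟩) = nrm ⟨t * x * t⁻¹, htA⟩ := by
      rw [nrm_apply, map_prod, nrm_apply]
      refine Fintype.prod_equiv (Equiv.ofBijective σ' (Finite.injective_iff_bijective.1 hσ)) _ _ fun q => ?_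
      have hmem : (⟨t * x * t⁻¹, htA⟩ : ↥A) ∈ C :=
        mem_subgroupOf.2 (mem_centralizer_iff.2 fun s hs => (h2' s hs).eq)
      have h9 : τ (act q.out ⟨x, h⟩) = act (σ q.out) ⟨t * x * t⁻¹, htA⟩ := by
        refine Subtype.ext ?_
        show t * ((q.out : G) * x * (q.out : G)⁻¹) * t⁻¹ =
          (t * (q.out : G) * t⁻¹) * (t * x * t⁻¹) * (t * (q.out : G) * t⁻¹)⁻¹
        group
      rw [h9]
      exact hwd _ hmem _ _ (QuotientGroup.out_eq' _).symm
    rw [← h8, h1, map_one]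
  have hKer0 : Ker = ⊥ := by
    by_contra hne
    obtain ⟨x, hx, hx1, hxT⟩ := exists_fixed (hAp.to_le hKA) hTp hTKer hne
    obtain ⟨h, h1, -, h3⟩ := (memKer x).1 hx
    have hxM := hfix x h h3 hxT
    rw [hnrm ⟨x, h⟩ (fun m => Subtype.ext (show (m : G) * x * (m : G)⁻¹ = x by
      rw [(hxM m m.2).eq, mul_inv_cancel_right]))] at h1
    have hxμ : x ^ μ = 1 := by simpa using congrArg Subtype.val h1
    obtain ⟨j, hj⟩ := hAp ⟨x, h⟩
    have hxj : x ^ p ^ j = 1 := congrArg Subtype.val hj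
    refine hx1 (orderOf_eq_one_iff.1 (Nat.eq_one_of_dvd_coprimes
      ((hp.coprime_iff_not_dvd.2 hμp).pow_left j) (orderOf_dvd_of_pow_eq_one hxj)
      (orderOf_dvd_of_pow_eq_one hxμ)))
  set α : ↥A := ⟨a, ha⟩
  have hαC : α ∈ C := mem_subgroupOf.2 (mem_centralizer_iff.2 fun s hs => (haS s hs).eq)
  have hmem : ((α ^ μ * (nrm α)⁻¹ : ↥A) : G) ∈ Ker := by
    refine (memKer _).2 ⟨(α ^ μ * (nrm α)⁻¹ : ↥A).2, ?_, ?_, ?_⟩
    · rw [Subtype.coe_eta, map_mul, map_pow, map_inv, hnrm (nrm α) (hinv α hαC)]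
      exact mul_inv_cancel _
    · intro s hs
      have h1 : Commute s (nrm α : G) := by
        have := congrArg Subtype.val (hinv α hαC ⟨s, hSM hs⟩)
        show s * (nrm α : G) = nrm α * s
        conv_rhs => rw [← this]
        show s * (nrm α : G) = s * (nrm α : G) * s⁻¹ * s
        group
      simp only [coe_mul, coe_inv, SubmonoidClass.coe_pow]
      exact ((haS s hs).pow_right μ).mul_right h1.inv_right
    · have h1 : α ^ μ * (nrm α)⁻¹ = (∏ q : ↥M ⧸ S', act q.out α * α⁻¹)⁻¹ := by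
        rw [Finset.prod_mul_distrib, Finset.prod_const, Finset.card_univ, ← nrm_apply, inv_pow,
          mul_inv_rev, inv_inv]
      rw [h1, coe_inv]
      refine K.inv_mem ?_
      have h2 : ∀ q : ↥M ⧸ S', act q.out α * α⁻¹ ∈ K.subgroupOf A := fun q =>
        mem_subgroupOf.2 (haK _ q.out.2)
      exact mem_subgroupOf.1 ((K.subgroupOf A).prod_mem fun q _ => h2 q)
  rw [hKer0, mem_bot] at hmem
  intro m hm
  have h1 : α ^ μ = nrm α := by
    refine mul_inv_eq_one.1 (Subtype.ext ?_)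
    exact hmem
  have h2 : Commute m (a ^ μ) := by
    have h3 := congrArg Subtype.val (hinv α hαC ⟨m, hm⟩)
    rw [← h1] at h3
    show m * a ^ μ = a ^ μ * m
    have h4 : m * a ^ μ * m⁻¹ = a ^ μ := by simpa [act, α] using h3
    conv_rhs => rw [← h4]
    group
  obtain ⟨j, hj⟩ := hAp α
  have haj : a ^ p ^ j = 1 := congrArg Subtype.val hj
  obtain ⟨e, he⟩ := exists_pow_eq_self_of_coprime (n := μ) (x := a)
    ((((hp.coprime_iff_not_dvd.2 hμp).pow_left j).coprime_dvd_left (orderOf_dvd_of_pow_eq_one haj)).symm)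
  rw [← he]
  exact h2.pow_right e

/-! ### `Ω₁(Z(P))` -/

/-- `Ω₁(Z(P))`, inside the ambient group. -/
abbrev omegaCenter (p : ℕ) (P : Subgroup G) : Subgroup G :=
  Cfsg.omegaOne p (P ⊓ centralizer (P : Set G))

theorem omegaCenter_le (P : Subgroup G) : omegaCenter p P ≤ P :=
  (PGroup.omegaOne_le _).trans inf_le_left

theorem omegaCenter_le_centralizer (P : Subgroup G) : omegaCenter p P ≤ centralizer (P : Set G) :=
  (PGroup.omegaOne_le _).trans inf_le_right

theorem mem_omegaCenter {P : Subgroup G} {x : G} (hx : x ∈ P) (hc : ∀ y ∈ P, Commute y x)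
    (hp : x ^ p = 1) : x ∈ omegaCenter p P :=
  PGroup.mem_omegaOne_of_pow_eq_one (show x ∈ P ⊓ centralizer (P : Set G) from
    ⟨hx, mem_centralizer_iff.2 hc⟩) hp

theorem elementaryAbelian_omegaCenter (P : Subgroup G) :
    Cfsg.IsElementaryAbelian p (omegaCenter p P) :=
  PGroup.isElementaryAbelian_omegaOne
    (PGroup.isMulCommutative_of_forall fun a ha b hb => mem_centralizer_iff.1 hb.2 a ha.1)

theorem normalizer_le_normalizer_omegaOne (X : Subgroup G) :
    normalizer (X : Set G) ≤ normalizer ((Cfsg.omegaOne p X : Subgroup G) : Set G) := by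
  refine le_normalizer_closure_iff.mpr ?_
  rintro g hg x ⟨hx, hxp⟩
  refine subset_closure ⟨(mem_normalizer_iff.1 hg x).1 hx, ?_⟩
  rw [conj_pow, hxp, mul_one, mul_inv_cancel]

theorem normalizer_le_normalizer_omegaCenter (P : Subgroup G) :
    normalizer (P : Set G) ≤ normalizer ((omegaCenter p P : Subgroup G) : Set G) :=
  ((le_inf le_rfl (Balance.normalizer_le_normalizer_centralizer _)).trans
    inf_normalizer_le_normalizer_inf).trans (normalizer_le_normalizer_omegaOne _)

/-- A Sylow subgroup of `K` contains every `p`-subgroup of `K` it normalises. -/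
theorem le_of_sylow_normalizes {K P Q : Subgroup G} (hPK : P ≤ K) (hPp : IsPGroup p ↥P)
    (hidx : ¬ p ∣ P.relIndex K) (hQK : Q ≤ K) (hQp : IsPGroup p ↥Q)
    (hPQ : P ≤ normalizer (Q : Set G)) : Q ≤ P := by
  have hJ : IsPGroup p ↥(P ⊔ Q) := hPp.to_sup_of_normal_right' hQp hPQ
  have hle : P ⊔ Q ≤ K := sup_le hPK hQK
  let T : Sylow p ↥K := (hPp.of_equiv (subgroupOfEquivOfLe hPK).symm).toSylow hidx
  have h := T.3 (hJ.of_equiv (subgroupOfEquivOfLe hle).symm)
    (fun x hx => mem_subgroupOf.2 (mem_sup_left (mem_subgroupOf.1 hx)))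
  intro q hq
  have h1 : (⟨q, hQK hq⟩ : ↥K) ∈ (T : Subgroup ↥K) := h.le (mem_subgroupOf.2 (mem_sup_right hq))
  exact mem_subgroupOf.1 h1

theorem not_dvd_relIndex_inf {K P L : Subgroup G} (hPK : P ≤ K) (hPp : IsPGroup p ↥P)
    (hidx : ¬ p ∣ P.relIndex K) (hLK : L ≤ K) (hKL : K ≤ normalizer (L : Set G)) :
    ¬ p ∣ (P ⊓ L).relIndex L := by
  have : (L.subgroupOf K).Normal := normal_subgroupOf_of_le_normalizer hKL
  obtain ⟨R, hR⟩ := SylowCount.exists_sylow_inf
    ((hPp.of_equiv (subgroupOfEquivOfLe hPK).symm).toSylow hidx) (L.subgroupOf K)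
  have h := R.not_dvd_index
  rw [hR] at h
  have h2 : (P.subgroupOf K).relIndex (L.subgroupOf K) = P.relIndex L := relIndex_subgroupOf hLK
  rw [inf_relIndex_right, ← h2]
  exact h

/-- The one-step version of `C_L(Ω₁Z(T)) = C_L(Ω₁Z(T ⊓ L))`. -/
theorem inf_centralizer_omega_center {K P L : Subgroup G} (hPK : P ≤ K) (hPp : IsPGroup p ↥P)
    (hidx : ¬ p ∣ P.relIndex K) (hLK : L ≤ K) (hKL : K ≤ normalizer (L : Set G))
    (hR : Balance.CharP' p (K ⊓ centralizer (omegaCenter p P : Set G)))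
    (hJ : Balance.CharP' p ((L ⊓ centralizer (omegaCenter p (P ⊓ L) : Set G)) ⊔ P)) :
    L ⊓ centralizer (omegaCenter p P : Set G) =
      L ⊓ centralizer (omegaCenter p (P ⊓ L) : Set G) := by
  set Z := omegaCenter p P with hZ
  set Z0 := omegaCenter p (P ⊓ L) with hZ0
  have hPZ : P ≤ centralizer (Z : Set G) := le_centralizer_iff.1 (omegaCenter_le_centralizer P)
  have hS0 : P ⊓ L ≤ centralizer (Z0 : Set G) := le_centralizer_iff.1 (omegaCenter_le_centralizer _)
  have hPL : P ≤ normalizer (L : Set G) := hPK.trans hKL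
  have hPS : P ≤ normalizer ((P ⊓ L : Subgroup G) : Set G) :=
    (le_inf le_normalizer hPL).trans inf_normalizer_le_normalizer_inf
  have hPnc : ∀ X : Subgroup G, P ≤ normalizer (X : Set G) →
      P ≤ normalizer ((L ⊓ centralizer (X : Set G) : Subgroup G) : Set G) := fun X hX =>
    (le_inf hPL (hX.trans (Balance.normalizer_le_normalizer_centralizer _))).trans
      inf_normalizer_le_normalizer_inf
  have hPZn : P ≤ normalizer (Z : Set G) :=
    le_normalizer.trans (normalizer_le_normalizer_omegaCenter P)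
  have hPZ0n : P ≤ normalizer (Z0 : Set G) := hPS.trans (normalizer_le_normalizer_omegaCenter _)
  -- common part: the abelian group on which a subgroup `M` with Sylow subgroup `P ⊓ L` acts
  have aux : ∀ M J : Subgroup G, P ⊓ L ≤ M → M ≤ L → P ≤ normalizer (M : Set G) → M ≤ J → J ≤ K →
      P ≤ normalizer (J : Set G) → Balance.CharP' p J →
      Balance.core p J ≤ P ∧ IsMulCommutative ↥(omegaCenter p (Balance.core p J)) ∧
      IsPGroup p ↥(omegaCenter p (Balance.core p J)) ∧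
      M ≤ normalizer (omegaCenter p (Balance.core p J) : Set G) ∧
      P ≤ normalizer (omegaCenter p (Balance.core p J) : Set G) ∧
      ¬ p ∣ (P ⊓ L).relIndex M := by
    intro M J hSM hML hPM hMJ hJK hPJ hcp
    have hPc : P ≤ normalizer (Balance.core p J : Set G) := hPJ.trans (Balance.normalizer_le_normalizer_core J)
    have hcP := le_of_sylow_normalizes hPK hPp hidx ((Balance.core_le J).trans hJK) (Balance.isPGroup_core J) hPc
    refine ⟨hcP, (elementaryAbelian_omegaCenter _).1,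
      PGroup.isPGroup_of_elementaryAbelian (elementaryAbelian_omegaCenter _),
      (hMJ.trans (Balance.le_normalizer_core J)).trans (normalizer_le_normalizer_omegaCenter _),
      hPc.trans (normalizer_le_normalizer_omegaCenter _), fun h => ?_⟩
    exact not_dvd_relIndex_inf hPK hPp hidx hLK hKL
      (h.trans (Dvd.intro _ (relIndex_mul_relIndex _ _ _ hSM hML)))
  apply le_antisymm
  · -- `C_L(Z)` centralises `Z0`
    set M := L ⊓ centralizer (Z : Set G) with hM
    have hSM : P ⊓ L ≤ M := le_inf inf_le_right (inf_le_left.trans hPZ)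
    have hMR : K ⊓ centralizer (Z : Set G) ≤ normalizer (M : Set G) :=
      (le_inf (inf_le_left.trans hKL) (inf_le_right.trans le_normalizer)).trans inf_normalizer_le_normalizer_inf
    have hMcp : Balance.CharP' p M := hR.of_normal (inf_le_inf_right _ hLK) hMR
    obtain ⟨hcP, hA, hAp, hMA, hPA, hi⟩ :=
      aux M M hSM inf_le_left (hPnc Z hPZn) le_rfl (inf_le_left.trans hLK) (hPnc Z hPZn) hMcp
    have hcS : Balance.core p M ≤ P ⊓ L := le_inf hcP ((Balance.core_le M).trans inf_le_left)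
    refine le_inf inf_le_left fun m hm => mem_centralizer_iff.2 fun z hz => ?_
    have hzS : z ∈ P ⊓ L := omegaCenter_le _ hz
    have hzc : ∀ y ∈ P ⊓ L, Commute y z := fun y hy =>
      mem_centralizer_iff.1 (omegaCenter_le_centralizer _ hz) y hy
    have hzA : z ∈ omegaCenter p (Balance.core p M) := by
      have hzp : z ^ p = 1 := (elementaryAbelian_omegaCenter (P ⊓ L)).2 z hz
      refine mem_omegaCenter (hMcp ⟨hSM hzS, mem_centralizer_iff.2 fun y hy => hzc y (hcS hy)⟩)
        (fun y hy => hzc y (hcS hy)) hzp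
    refine (commute_of_fixed (K := ⊤) hA hAp hMA hSM hi hPp hPA (hPnc Z hPZn) hPS
      (by rw [normalizer_eq_top_iff.2 inferInstance]; exact le_top)
      (by rw [normalizer_eq_top_iff.2 inferInstance]; exact le_top)
      (fun k hk _ hkP m hm => ?_) hzA (fun s hs => hzc s hs) (fun _ _ => mem_top _) m hm).eq.symm
    have hkP' : k ∈ P := hcP (omegaCenter_le _ hk)
    have hkZ : k ∈ Z := mem_omegaCenter hkP' hkP ((elementaryAbelian_omegaCenter _).2 k hk)
    exact (mem_centralizer_iff.1 hm.2 k hkZ).symm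
  · -- `C_L(Z0)` centralises `Z`
    set M := L ⊓ centralizer (Z0 : Set G) with hM
    have hSM : P ⊓ L ≤ M := le_inf inf_le_right hS0
    have hPM := hPnc Z0 hPZ0n
    obtain ⟨hcP, hA, hAp, hMA, hPA, hi⟩ := aux M (M ⊔ P) hSM inf_le_left hPM le_sup_left
      (sup_le (inf_le_left.trans hLK) hPK) (le_sup_right.trans le_normalizer) hJ
    refine le_inf inf_le_left fun m hm => mem_centralizer_iff.2 fun z hz => ?_
    have hzc : ∀ y ∈ P, Commute y z := fun y hy =>
      mem_centralizer_iff.1 (omegaCenter_le_centralizer _ hz) y hy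
    have hzA : z ∈ omegaCenter p (Balance.core p (M ⊔ P)) := by
      refine mem_omegaCenter (hJ ⟨mem_sup_right (omegaCenter_le _ hz),
        mem_centralizer_iff.2 fun y hy => hzc y (hcP hy)⟩) (fun y hy => hzc y (hcP hy))
        ((elementaryAbelian_omegaCenter P).2 z hz)
    refine (commute_of_fixed (K := L) hA hAp hMA hSM hi hPp hPA hPM hPS hPL
      (inf_le_left.trans le_normalizer) (fun k hk hkL hkP m hm => ?_) hzA
      (fun s hs => hzc s hs.1) (fun m hm => ?_) m hm).eq.symm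
    · have hkP' : k ∈ P ⊓ L := ⟨hcP (omegaCenter_le _ hk), hkL⟩
      have hkZ : k ∈ Z0 := mem_omegaCenter hkP' (fun y hy => hkP y hy.1)
        ((elementaryAbelian_omegaCenter _).2 k hk)
      exact (mem_centralizer_iff.1 hm.2 k hkZ).symm
    · have h1 : z * m⁻¹ * z⁻¹ ∈ L :=
        conj_mem_of_normalizer (hPL (omegaCenter_le _ hz)) (L.inv_mem hm.1)
      have := L.mul_mem hm.1 h1
      simpa [mul_assoc] using this

end Cfsg.Agent.PRed
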