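import Cfsg.Prelude.Def_LocalEven
import Cfsg.Agent.Lib.PRed.Basic
import Cfsg.Agent.Lib.PCore.Basic
import Cfsg.Agent.Lib.PGroup.ElementaryAbelian
import Cfsg.Agent.Lib.Balance.CharP
import Cfsg.Agent.Lib.Coprime.Commutator

/-!
`p`-reduced normal subgroups, elementwise.

`IsPReducedNormal p V` iff `V` is normal elementary abelian and every normal subgroup `D` all of whose
elements have a `p`-power in `C(V)` centralises `V`.

* `Reduced.sup`, `exists_largest`: the largest reduced normal subgroup;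
* `reduced_normalClosure`: reduced in an overgroup of a Sylow subgroup gives reduced in `L`;
* `le_centralizer_of_subnormal`: subnormal `K`: no normal subgroup of `K` acts on `V` as a nontrivial `p`-group;
* `commutator_le_of_subnormal`: `[V, O^p K] ≤ K`.
-/

namespace Cfsg.Agent.PRed

open Subgroup
open scoped commutatorElement

variable {L : Type*} [Group L] {p : ℕ}

theorem centralizer_normal {V : Subgroup L} (hV : V.Normal) : (centralizer (V : Set L)).Normal :=
  normalizer_eq_top_iff.1 (top_le_iff.1 ((normalizer_eq_top_iff.2 hV).ge.trans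
    (Balance.normalizer_le_normalizer_centralizer _)))

/-- Every element of `D` has a `p`-power in `C`. -/
def PMod (p : ℕ) (C D : Subgroup L) : Prop := ∀ d ∈ D, ∃ k : ℕ, d ^ p ^ k ∈ C

theorem isPGroup_map_iff {C D : Subgroup L} [C.Normal] :
    IsPGroup p ↥(D.map (QuotientGroup.mk' C)) ↔ PMod p C D := by
  constructor
  · intro h d hd
    obtain ⟨k, hk⟩ := h ⟨_, mem_map_of_mem _ hd⟩
    refine ⟨k, (QuotientGroup.eq_one_iff _).1 ?_⟩
    simpa using congrArg Subtype.val hk
  · rintro h ⟨_, d, hd, rfl⟩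
    obtain ⟨k, hk⟩ := h d hd
    refine ⟨k, Subtype.ext ?_⟩
    simpa using (QuotientGroup.eq_one_iff _).2 hk

theorem isPReducedNormal_iff [Finite L] [Fact p.Prime] {V : Subgroup L} :
    Cfsg.IsPReducedNormal p V ↔ V.Normal ∧ Cfsg.IsElementaryAbelian p V ∧
      ∀ D : Subgroup L, D.Normal → PMod p (centralizer (V : Set L)) D →
        D ≤ centralizer (V : Set L) := by
  constructor
  · rintro ⟨hn, he, hC, h⟩
    refine ⟨hn, he, fun D hD hp => ?_⟩
    have := hD.map (QuotientGroup.mk' (centralizer (V : Set L))) (QuotientGroup.mk'_surjective _)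
    have h1 := PCore.le_pCore (isPGroup_map_iff.2 hp)
    rw [h, map_le_iff_le_comap, MonoidHom.comap_bot, QuotientGroup.ker_mk'] at h1
    exact h1
  · rintro ⟨hn, he, h⟩
    have hC := centralizer_normal hn
    refine ⟨hn, he, hC, ?_⟩
    set P := Cfsg.pCore p (L ⧸ centralizer (V : Set L))
    have hP : P.Normal := PCore.pCore_normal
    set D := P.comap (QuotientGroup.mk' (centralizer (V : Set L))) with hD
    have hmap : D.map (QuotientGroup.mk' (centralizer (V : Set L))) = P :=
      map_comap_eq_self_of_surjective (QuotientGroup.mk'_surjective _) P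
    have h1 := h D (hP.comap _) (isPGroup_map_iff.1 (hmap.symm ▸ PCore.isPGroup_pCore))
    refine le_bot_iff.1 ?_
    rw [← hmap, map_le_iff_le_comap, MonoidHom.comap_bot, QuotientGroup.ker_mk']
    exact h1

theorem pMod_of_isPGroup {C D : Subgroup L} (h : IsPGroup p ↥D) : PMod p C D := fun d hd => by
  obtain ⟨k, hk⟩ := h ⟨d, hd⟩
  exact ⟨k, by rw [show d ^ p ^ k = 1 from congrArg Subtype.val hk]; exact one_mem _⟩

theorem pMod_mono {C C' D D' : Subgroup L} (h : PMod p C D) (hD : D' ≤ D) (hC : C ≤ C') :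
    PMod p C' D' := fun d hd => (h d (hD hd)).imp fun _ hk => hC hk

theorem pMod_sup {C D : Subgroup L} [C.Normal] (h : PMod p C D) : PMod p C (D ⊔ C) := by
  rw [← isPGroup_map_iff] at h ⊢
  rwa [Subgroup.map_sup, (Subgroup.map_eq_bot_iff C).2 (QuotientGroup.ker_mk' C).ge, sup_bot_eq]

/-- A normal subgroup acting as a `p`-group modulo `C` is covered by a Sylow subgroup. -/
theorem le_inf_sylow_sup [Finite L] [Fact p.Prime] {C D : Subgroup L} [C.Normal] [D.Normal]
    (h : PMod p C D) (T : Sylow p L) : D ≤ ((D ⊔ C) ⊓ (T : Subgroup L)) ⊔ C := by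
  intro d hd
  have := (inferInstance : D.Normal).map (QuotientGroup.mk' C) (QuotientGroup.mk'_surjective _)
  have h1 : D.map (QuotientGroup.mk' C) ≤ (T : Subgroup L).map (QuotientGroup.mk' C) :=
    (PCore.le_pCore (isPGroup_map_iff.2 h)).trans
      (PCore.pCore_le_sylow (T.mapSurjective (QuotientGroup.mk'_surjective C)))
  obtain ⟨t, ht, hte⟩ := h1 (mem_map_of_mem _ hd)
  have hc : d⁻¹ * t ∈ C := QuotientGroup.eq.1 hte.symm
  have htD : t ∈ D ⊔ C := by
    have := mul_mem (mem_sup_left (T := C) hd) (mem_sup_right (S := D) hc)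
    simpa using this
  have := mul_mem (mem_sup_left (T := C) (show t ∈ (D ⊔ C) ⊓ (T : Subgroup L) from ⟨htD, ht⟩))
    (mem_sup_right (S := (D ⊔ C) ⊓ (T : Subgroup L)) (inv_mem hc))
  simpa using this

theorem elementaryAbelian_pGroup [Fact p.Prime] {V : Subgroup L}
    (h : Cfsg.IsElementaryAbelian p V) : IsPGroup p ↥V :=
  PGroup.isPGroup_of_elementaryAbelian h

/-- A normal `p`-subgroup centralises every reduced normal subgroup. -/
theorem le_centralizer_of_isPGroup [Finite L] [Fact p.Prime] {V N : Subgroup L}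
    (hV : Cfsg.IsPReducedNormal p V) (hN : N.Normal) (hp : IsPGroup p ↥N) :
    N ≤ centralizer (V : Set L) :=
  (isPReducedNormal_iff.1 hV).2.2 N hN (pMod_of_isPGroup hp)

theorem reduced_le_pCore [Finite L] [Fact p.Prime] {V : Subgroup L}
    (hV : Cfsg.IsPReducedNormal p V) : V ≤ Cfsg.pCore p L :=
  have := hV.1
  PCore.le_pCore (elementaryAbelian_pGroup hV.2.1)

theorem reduced_sup [Finite L] [Fact p.Prime] {V W : Subgroup L} (hV : Cfsg.IsPReducedNormal p V)
    (hW : Cfsg.IsPReducedNormal p W) : Cfsg.IsPReducedNormal p (V ⊔ W) := by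
  have := hV.1
  have := hW.1
  have hWV := le_centralizer_of_isPGroup hV hW.1 (elementaryAbelian_pGroup hW.2.1)
  refine isPReducedNormal_iff.2 ⟨inferInstance, PGroup.isElementaryAbelian_sup hV.2.1 hW.2.1
    (fun a ha b hb => mem_centralizer_iff.1 (hWV hb) a ha), fun D hD hp => ?_⟩
  have hl : centralizer ((V ⊔ W : Subgroup L) : Set L) ≤ centralizer (V : Set L) :=
    centralizer_le (SetLike.coe_subset_coe.2 le_sup_left)
  have hr : centralizer ((V ⊔ W : Subgroup L) : Set L) ≤ centralizer (W : Set L) :=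
    centralizer_le (SetLike.coe_subset_coe.2 le_sup_right)
  have h1 := (isPReducedNormal_iff.1 hV).2.2 D hD (pMod_mono hp le_rfl hl)
  have h2 := (isPReducedNormal_iff.1 hW).2.2 D hD (pMod_mono hp le_rfl hr)
  rw [le_centralizer_iff] at h1 h2 ⊢
  exact sup_le h1 h2

theorem reduced_bot [Finite L] [Fact p.Prime] : Cfsg.IsPReducedNormal p (⊥ : Subgroup L) := by
  refine isPReducedNormal_iff.2 ⟨inferInstance, PGroup.isElementaryAbelian_bot,
    fun D _ _ x _ => mem_centralizer_iff.2 fun y hy => ?_⟩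
  obtain rfl : y = 1 := hy
  simp

theorem exists_largest [Finite L] [Fact p.Prime] :
    ∃ Y : Subgroup L, Cfsg.IsPReducedNormal p Y ∧
      ∀ V : Subgroup L, Cfsg.IsPReducedNormal p V → V ≤ Y := by
  obtain ⟨Y, hY⟩ := (Set.toFinite {V : Subgroup L | Cfsg.IsPReducedNormal p V}).exists_maximal
    ⟨⊥, reduced_bot⟩
  exact ⟨Y, hY.1, fun V hV => le_sup_right.trans (hY.2 (reduced_sup hY.1 hV) le_sup_left)⟩

/-- A subgroup reduced in an overgroup `R` of a Sylow subgroup has reduced normal closure. -/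
theorem reduced_normalClosure [Finite L] [Fact p.Prime]
    (hchar : centralizer (Cfsg.pCore p L : Set L) ≤ Cfsg.pCore p L) (T : Sylow p L) {R : Subgroup L}
    (hTR : (T : Subgroup L) ≤ R) {X : Subgroup ↥R} (hX : Cfsg.IsPReducedNormal p X) :
    Cfsg.IsPReducedNormal p (normalClosure ((X.map R.subtype : Subgroup L) : Set L)) := by
  set X' := X.map R.subtype with hX'
  have hmem : ∀ D : Subgroup L, D.Normal → PMod p (centralizer (X' : Set L)) D →
      D ⊓ R ≤ centralizer (X' : Set L) := by
    intro D hD hp x hx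
    have h1 := (isPReducedNormal_iff.1 hX).2.2 (D.subgroupOf R) (normal_subgroupOf) (fun d hd => by
      obtain ⟨k, hk⟩ := hp (d : L) (mem_subgroupOf.1 hd)
      refine ⟨k, mem_centralizer_iff.2 fun y hy => Subtype.ext ?_⟩
      simpa using mem_centralizer_iff.1 hk (y : L) ⟨y, hy, rfl⟩)
    refine mem_centralizer_iff.2 ?_
    rintro _ ⟨y, hy, rfl⟩
    exact congrArg Subtype.val
      (mem_centralizer_iff.1 (h1 (show (⟨x, hx.2⟩ : ↥R) ∈ D.subgroupOf R from hx.1)) y hy)
  have hX'p : IsPGroup p ↥X' := (elementaryAbelian_pGroup hX.2.1).map _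
  set O := Cfsg.pCore p L with hO
  have hOR : O ≤ R := (PCore.pCore_le_sylow T).trans hTR
  have hOX : O ≤ centralizer (X' : Set L) := fun o ho =>
    hmem O PCore.pCore_normal (pMod_of_isPGroup PCore.isPGroup_pCore) ⟨ho, hOR ho⟩
  have hXC : X' ≤ centralizer (O : Set L) := le_centralizer_iff.1 hOX
  have hXO : X' ≤ O ⊓ centralizer (O : Set L) := le_inf (hXC.trans hchar) hXC
  have hZc : IsMulCommutative ↥(O ⊓ centralizer (O : Set L)) :=
    PGroup.isMulCommutative_of_forall fun a ha b hb => mem_centralizer_iff.1 hb.2 a ha.1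
  have hZn : (Cfsg.omegaOne p (O ⊓ centralizer (O : Set L))).Normal := by
    have := centralizer_normal (V := O) PCore.pCore_normal
    exact PGroup.omegaOne_normal _
  have hle : normalClosure (X' : Set L) ≤ Cfsg.omegaOne p (O ⊓ centralizer (O : Set L)) := by
    refine normalClosure_le_normal fun x hx => ?_
    obtain ⟨y, hy, rfl⟩ := hx
    exact PGroup.mem_omegaOne_of_pow_eq_one (hXO ⟨y, hy, rfl⟩)
      (congrArg Subtype.val (hX.2.1.2 y hy))
  refine isPReducedNormal_iff.2 ⟨inferInstance,
    PGroup.isElementaryAbelian_mono (PGroup.isElementaryAbelian_omegaOne hZc) hle,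
    fun D hD hp => ?_⟩
  set V := normalClosure (X' : Set L)
  have hC := centralizer_normal (V := V) inferInstance
  have hXV : X' ≤ V := le_normalClosure
  have hCX : centralizer (V : Set L) ≤ centralizer (X' : Set L) :=
    centralizer_le (SetLike.coe_subset_coe.2 hXV)
  have h1 : (D ⊔ centralizer (V : Set L)) ⊓ (T : Subgroup L) ≤ centralizer (X' : Set L) :=
    (inf_le_inf_left _ hTR).trans (hmem _ inferInstance (pMod_mono (pMod_sup hp) le_rfl hCX))
  have h2 : D ≤ centralizer (X' : Set L) := (le_inf_sylow_sup hp T).trans (sup_le h1 hCX)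
  rw [le_centralizer_iff] at h2 ⊢
  have := centralizer_normal hD
  exact normalClosure_le_normal (SetLike.coe_subset_coe.2 h2)

/-- For a subnormal `K`, a subgroup normalised by `K` acting on a reduced `V` as a `p`-group acts trivially. -/
theorem le_centralizer_of_subnormal [Finite L] [Fact p.Prime] {V K D : Subgroup L}
    (hV : Cfsg.IsPReducedNormal p V) (hK : K.IsSubnormal) (hDK : D ≤ K)
    (hKD : K ≤ normalizer (D : Set L)) (hp : PMod p (centralizer (V : Set L)) D) :
    D ≤ centralizer (V : Set L) := by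
  obtain ⟨hn, he, hC, h⟩ := hV
  set f := QuotientGroup.mk' (centralizer (V : Set L))
  have hK' : (K.map f).IsSubnormal := hK.map (QuotientGroup.mk'_surjective _)
  have h1 : D.map f ≤ Balance.core p (K.map f) :=
    Balance.le_core (map_mono hDK) ((map_mono hKD).trans (le_normalizer_map f))
      (isPGroup_map_iff.2 hp)
  have h2 := h1.trans (Balance.core_le_pCore_of_isSubnormal hK')
  rw [h, map_le_iff_le_comap, MonoidHom.comap_bot, QuotientGroup.ker_mk'] at h2
  exact h2

section residual

variable [Finite L] [Fact p.Prime] {V K : Subgroup L}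

theorem pResidual_sub_le (K : Subgroup L) : (Cfsg.pResidual p ↥K).map K.subtype ≤ K :=
  map_subtype_le _

theorem le_normalizer_pResidual_sub (K : Subgroup L) :
    K ≤ normalizer (((Cfsg.pResidual p ↥K).map K.subtype : Subgroup L) : Set L) :=
  have := Transfer.pResidual_characteristic (G := ↥K) p
  le_normalizer.trans (Components.normalizer_le_normalizer_map_of_characteristic K _)

/-- `[V, R, R] = [V, R]` for `R = O^p(K)` and `V` a normal `p`-subgroup. -/
theorem commutator_residual_idem (hVn : V.Normal) (hVp : IsPGroup p ↥V) :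
    ⁅⁅V, (Cfsg.pResidual p ↥K).map K.subtype⁆, (Cfsg.pResidual p ↥K).map K.subtype⁆ =
      ⁅V, (Cfsg.pResidual p ↥K).map K.subtype⁆ := by
  set R := (Cfsg.pResidual p ↥K).map K.subtype
  set W := ⁅V, R⁆ with hW
  refine le_antisymm (Subgroup.le_normalizer_iff_commutator_le_left.1
    (normalizer_commutator_ge_right V R)) ?_
  have hRW : R ≤ normalizer ((⁅W, R⁆ : Subgroup L) : Set L) := normalizer_commutator_ge_right W R
  have hbase : ∀ b ∈ R, ¬ p ∣ orderOf b → ∀ v ∈ V, ⁅v, b⁆ ∈ ⁅W, R⁆ := by
    intro b hb hd v hv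
    have hA : zpowers b ≤ normalizer (V : Set L) := by
      rw [normalizer_eq_top_iff.2 hVn]; exact le_top
    have hcop : (Nat.card (zpowers b)).Coprime (Nat.card V) := by
      obtain ⟨n, hn⟩ := IsPGroup.iff_card.1 hVp
      rw [hn, Nat.card_zpowers]
      exact ((not_dvd_orderOf_iff b).1 hd).pow_right n
    have hs : Group.IsSolvable ↥(zpowers b) ∨ Group.IsSolvable ↥V :=
      Or.inr (have := hVp.isNilpotent; inferInstance)
    have h1 := Coprime.commutator_commutator_eq hA hcop hs
    have h2 : ⁅v, b⁆ ∈ ⁅V, zpowers b⁆ := commutator_mem_commutator hv (mem_zpowers b)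
    rw [← h1] at h2
    exact commutator_mono (commutator_mono le_rfl (zpowers_le.2 hb)) (zpowers_le.2 hb) h2
  have key : ∀ r : ↥K, r ∈ Cfsg.pResidual p ↥K → ∀ v ∈ V, ⁅v, (r : L)⁆ ∈ ⁅W, R⁆ := by
    intro r hr
    unfold Cfsg.pResidual at hr
    induction hr using Subgroup.closure_induction with
    | mem r hr =>
      refine hbase r ⟨r, subset_closure hr, rfl⟩ ?_
      rw [not_dvd_orderOf_iff, Subgroup.orderOf_coe]
      exact hr
    | one => intro v _; simp
    | mul a b ha _ iha ihb =>
      intro v hv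
      have h1 : ⁅v, ((a * b : ↥K) : L)⁆ = ⁅v, (a : L)⁆ * ((a : L) * ⁅v, (b : L)⁆ * (a : L)⁻¹) := by
        simp only [coe_mul, commutatorElement_def]; group
      rw [h1]
      exact mul_mem (iha v hv) ((mem_normalizer_iff.1 (hRW ⟨a, ha, rfl⟩) _).1 (ihb v hv))
    | inv a ha iha =>
      intro v hv
      have h1 : ⁅v, ((a⁻¹ : ↥K) : L)⁆ = ((a : L)⁻¹ * ⁅v, (a : L)⁆ * (a : L))⁻¹ := by
        simp only [coe_inv, commutatorElement_def]; group
      rw [h1]
      exact inv_mem ((mem_normalizer_iff''.1 (hRW ⟨a, ha, rfl⟩) _).1 (iha v hv))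
  refine commutator_le.2 fun v hv r hr => ?_
  obtain ⟨r', hr', rfl⟩ := hr
  exact key r' hr' v hv

/-- `[V, O^p(K)] ≤ K` for subnormal `K`. -/
theorem commutator_le_of_subnormal (hVn : V.Normal) (hVp : IsPGroup p ↥V) (hK : K.IsSubnormal) :
    ⁅V, (Cfsg.pResidual p ↥K).map K.subtype⁆ ≤ K := by
  have hid := commutator_residual_idem (K := K) hVn hVp
  have hR := pResidual_sub_le (p := p) K
  generalize hW : ⁅V, (Cfsg.pResidual p ↥K).map K.subtype⁆ = W at hid ⊢
  generalize (Cfsg.pResidual p ↥K).map K.subtype = R at hid hR hW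
  clear hW hVn hVp
  induction hK with
  | top => exact le_top
  | step A B hle hB hN ih =>
    rw [← hid]
    exact (commutator_mono (ih (hR.trans hle)) hR).trans (le_normalizer_iff_commutator_le_right.1
      ((normal_subgroupOf_iff_le_normalizer hle).1 hN))

end residual

end Cfsg.Agent.PRed
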